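import Cfsg.Agent.SylowToolkit.Classes
import Cfsg.Agent.SylowToolkit.PermRep
import Mathlib

/-!
# An involution centralizing a Sylow subgroup of prime order

Its fixed points on `Sylow p G` are Sylow subgroups of its centralizer when there are more of them
than classes.
-/

set_option autoImplicit false

namespace CfsgLib.SylowToolkit

open Subgroup MulAction

variable {G : Type*} [Group G] [Finite G] {p : ℕ} [hp : Fact p.Prime]

/-- An element centralizing `P` fixes `1 (mod p)` Sylow subgroups. -/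
theorem fixCount_centralizing_modEq {P : Sylow p G} (hP : Nat.card (P : Subgroup G) = p) {t : G}
    (ht : t ∈ centralizer ((P : Subgroup G) : Set G)) : fixCount p t ≡ 1 [MOD p] := by
  letI : MulAction (P : Subgroup G) (fixedBy (Sylow p G) t) :=
    { smul := fun x Q => ⟨(x : G) • (Q : Sylow p G), by
        rw [mem_fixedBy, smul_smul, ← mem_centralizer_iff.mp ht x x.2, ← smul_smul, Q.2]⟩
      one_smul := fun Q => Subtype.ext (one_smul G (Q : Sylow p G))
      mul_smul := fun x y Q => Subtype.ext (mul_smul (x : G) (y : G) (Q : Sylow p G)) }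
  refine (P.isPGroup'.card_modEq_card_fixedPoints (fixedBy (Sylow p G) t)).trans ?_
  have hPfix : t • P = P :=
    Sylow.smul_eq_iff_mem_normalizer.mpr (centralizer_le_normalizer _ ht)
  have h1 : Nat.card (fixedPoints (P : Subgroup G) (fixedBy (Sylow p G) t)) = 1 := by
    refine Nat.card_eq_one_iff_unique.mpr ⟨⟨fun a b => ?_⟩, ⟨⟨⟨P, hPfix⟩, fun x => Subtype.ext (smul_self_of_mem x.2)⟩⟩⟩
    obtain ⟨⟨A, hA⟩, hA'⟩ := a
    obtain ⟨⟨B, hB⟩, hB'⟩ := b
    have key : ∀ (A : Sylow p G) (hA : t • A = A),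
        (∀ x : (P : Subgroup G), x • (⟨A, hA⟩ : fixedBy (Sylow p G) t) = ⟨A, hA⟩) → A = P :=
      fun A hA h => eq_of_forall_smul_eq fun x hx => congrArg Subtype.val (h ⟨x, hx⟩)
    exact Subtype.ext (Subtype.ext ((key A hA hA').trans (key B hB hB').symm))
  rw [h1]

/-- If an involution fixes more Sylow subgroups than there are classes, it centralizes each of them. -/
theorem le_centralizer_of_fixed (hp2 : p ≠ 2) {t : G} (htt : t * t = 1) {R : Sylow p G}
    (hR : Nat.card (R : Subgroup G) = p) (hfix : t • R = R)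
    (hlt : 1 + (Nat.card (Sylow p G) - 1) / p < fixCount p t) :
    (R : Subgroup G) ≤ centralizer ({t} : Set G) := by
  classical
  have htN : t ∈ normalizer ((R : Subgroup G) : Set G) := Sylow.smul_eq_iff_mem_normalizer.mp hfix
  have hcyc : IsCyclic (R : Subgroup G) := isCyclic_of_prime_card hR
  obtain ⟨⟨x, hx⟩, hgen⟩ := hcyc.exists_generator
  obtain ⟨k, hk⟩ := mem_zpowers_iff.mp (hgen ⟨t * x * t⁻¹, (mem_normalizer_iff.mp htN x).mp hx⟩)
  have hk' : x ^ k = t * x * t⁻¹ := congrArg Subtype.val hk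
  have hkk : x ^ (k * k) = x := by
    rw [zpow_mul, hk', conj_zpow, hk']
    calc t * (t * x * t⁻¹) * t⁻¹ = (t * t) * x * (t * t)⁻¹ := by group
      _ = x := by rw [htt]; group
  have hxo : orderOf x = p := by
    rw [← orderOf_mk x hx, orderOf_eq_card_of_forall_mem_zpowers hgen, hR]
  have hdvd : (p : ℤ) ∣ (k * k - 1) := by
    have := orderOf_dvd_iff_zpow_eq_one.mpr (show x ^ (k * k - 1) = 1 by rw [zpow_sub_one, hkk, mul_inv_cancel])
    rwa [hxo] at this
  rw [show k * k - 1 = (k - 1) * (k + 1) by ring] at hdvd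
  have hall : ∀ y ∈ (R : Subgroup G), ∃ j : ℤ, x ^ j = y := fun y hy => by
    obtain ⟨j, hj⟩ := mem_zpowers_iff.mp (hgen ⟨y, hy⟩)
    exact ⟨j, congrArg Subtype.val hj⟩
  rcases Int.Prime.dvd_mul' hp.out hdvd with h1 | h1
  · have hc : t * x * t⁻¹ = x := by
      rw [← hk', ← sub_add_cancel k 1, zpow_add_one, orderOf_dvd_iff_zpow_eq_one.mp (hxo ▸ h1), one_mul]
    intro y hy
    obtain ⟨j, rfl⟩ := hall y hy
    rw [mem_centralizer_singleton_iff]
    exact ((show Commute x t from (mul_inv_eq_iff_eq_mul.mp hc).symm).zpow_left j).eq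
  · exfalso
    have hinv : ∀ y ∈ (R : Subgroup G), t * y * t⁻¹ = y⁻¹ := fun y hy => by
      obtain ⟨j, rfl⟩ := hall y hy
      have hi : x ^ k = x⁻¹ := eq_inv_of_mul_eq_one_left (by rw [← zpow_add_one]; exact orderOf_dvd_iff_zpow_eq_one.mp (hxo ▸ h1))
      rw [← conj_zpow, ← hk', hi, inv_zpow]
    have hle := fixCount_le_of_inverts hR hp2 htt hinv
    have hcl := card_sylow_eq_classes hR
    have h2 : Nat.card (OtherClasses R) = Nat.card (SylowClasses R) - 1 := by
      have : Fintype (SylowClasses R) := Fintype.ofFinite _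
      rw [Nat.card_eq_fintype_card, Nat.card_eq_fintype_card, Fintype.card_subtype_compl, Fintype.card_subtype_eq]
    rw [hcl, h2, Nat.add_sub_cancel_left, Nat.mul_div_cancel _ hp.out.pos] at hlt
    omega

/-- Fixed points of such an involution inject into the Sylow subgroups of its centralizer. -/
theorem fixCount_le_card_sylow_centralizer (hp2 : p ≠ 2) {t : G} (htt : t * t = 1)
    (hP : ∀ R : Sylow p G, Nat.card (R : Subgroup G) = p)
    (hlt : 1 + (Nat.card (Sylow p G) - 1) / p < fixCount p t) :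
    fixCount p t ≤ Nat.card (Sylow p (centralizer ({t} : Set G))) := by
  refine Nat.card_le_card_of_injective (fun Q : fixedBy (Sylow p G) t =>
    Sylow.subtype Q.1 (le_centralizer_of_fixed hp2 htt (hP Q.1) Q.2 hlt)) ?_
  rintro ⟨A, hA⟩ ⟨B, hB⟩ hAB
  exact Subtype.ext (Sylow.subtype_injective hAB)

/-- `|H| = n_p(H) * m` with `|C(P)| ∣ m ∣ |N(P)|` whenever `C(P) ≤ H`. -/
theorem exists_card_eq_card_sylow_mul {P : Sylow p G} {H : Subgroup G}
    (hC : centralizer ((P : Subgroup G) : Set G) ≤ H) (hPH : (P : Subgroup G) ≤ H) :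
    ∃ m, Nat.card H = Nat.card (Sylow p H) * m ∧ Nat.card (centralizer ((P : Subgroup G) : Set G)) ∣ m ∧
      m ∣ Nat.card (normalizer ((P : Subgroup G) : Set G)) ∧
      (normalizer ((P : Subgroup G) : Set G) ≤ H → m = Nat.card (normalizer ((P : Subgroup G) : Set G))) := by
  have h := card_normalizer_mul (P.subtype hPH)
  have he : normalizer (((P.subtype hPH : Sylow p H) : Subgroup H) : Set H) =
      (normalizer ((P : Subgroup G) : Set G)).subgroupOf H := by
    rw [Sylow.coe_subtype, subgroupOf_normalizer_eq hPH]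
  have hcard : Nat.card ((normalizer ((P : Subgroup G) : Set G)).subgroupOf H) =
      Nat.card (normalizer ((P : Subgroup G) : Set G) ⊓ H : Subgroup G) := by
    rw [← inf_subgroupOf_right, Nat.card_congr (subgroupOfEquivOfLe inf_le_right).toEquiv]
  rw [he, hcard] at h
  refine ⟨_, (h.symm.trans (mul_comm _ _)).trans (by rw [mul_comm]), card_dvd_of_le (le_inf (centralizer_le_normalizer _) hC), card_dvd_of_le inf_le_left, fun hN => ?_⟩
  rw [inf_eq_left.mpr hN]

/-- `C(P)` of order `p * 2 ^ j`, `j ≤ 2`, is abelian. -/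
theorem centralizer_mul_comm (hp2 : p ≠ 2) {P : Sylow p G} (hP : Nat.card (P : Subgroup G) = p) {j : ℕ}
    (hj : j ≤ 2) (hC : Nat.card (centralizer ((P : Subgroup G) : Set G)) = p * 2 ^ j)
    : ∀ x y : centralizer ((P : Subgroup G) : Set G), x * y = y * x := by
  have : Fact (Nat.Prime 2) := ⟨Nat.prime_two⟩
  set C := centralizer ((P : Subgroup G) : Set G) with hCdef
  have hp2' : ¬ 2 ∣ p := fun h => hp2 ((Nat.prime_dvd_prime_iff_eq Nat.prime_two hp.out).mp h).symm
  obtain ⟨V⟩ : Nonempty (Sylow 2 C) := inferInstance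
  have hV : Nat.card (V : Subgroup C) = 2 ^ j :=
    card_sylow_subgroup_eq (k := j) (m := p) (by rw [hC, mul_comm]) hp2' V
  have hVcomm : ∀ a ∈ (V : Subgroup C), ∀ b ∈ (V : Subgroup C), a * b = b * a := by
    intro a ha b hb
    interval_cases j
    · have : Subsingleton (V : Subgroup C) := (Nat.card_eq_one_iff_unique.mp (by simpa using hV)).1
      exact congrArg Subtype.val (Subsingleton.elim (⟨a, ha⟩ * ⟨b, hb⟩ : (V : Subgroup C)) (⟨b, hb⟩ * ⟨a, ha⟩))
    · have : IsCyclic (V : Subgroup C) := isCyclic_of_prime_card (p := 2) (by simpa using hV)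
      exact congrArg Subtype.val (this.commGroup.mul_comm ⟨a, ha⟩ ⟨b, hb⟩)
    · exact congrArg Subtype.val
        ((IsPGroup.isMulCommutative_of_card_eq_prime_sq hV).is_comm.comm ⟨a, ha⟩ ⟨b, hb⟩)
  have hPC : (P : Subgroup G) ≤ C := by
    have hcyc : IsCyclic (P : Subgroup G) := isCyclic_of_prime_card hP
    exact fun a ha => mem_centralizer_iff.mpr fun b hb =>
      congrArg Subtype.val (hcyc.commGroup.mul_comm ⟨b, hb⟩ ⟨a, ha⟩)
  have hPcen : (P : Subgroup G).subgroupOf C ≤ center C := fun a ha => mem_center_iff.mpr fun g =>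
    Subtype.ext (mem_centralizer_iff.mp g.2 _ ha).symm
  have hbig : ∀ L : Subgroup C, (P : Subgroup G).subgroupOf C ≤ L → (V : Subgroup C) ≤ L → L = ⊤ := by
    intro L h1 h2
    refine eq_top_of_card_eq _ (Nat.dvd_antisymm (card_subgroup_dvd_card _) ?_)
    rw [hC]
    refine Nat.Coprime.mul_dvd_of_dvd_of_dvd (hp.out.coprime_iff_not_dvd.mpr fun h => hp2 ?_) ?_ ?_
    · exact (Nat.prime_dvd_prime_iff_eq hp.out Nat.prime_two).mp (hp.out.dvd_of_dvd_pow h)
    · refine dvd_trans ?_ (card_dvd_of_le h1)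
      rw [Nat.card_congr (subgroupOfEquivOfLe hPC).toEquiv, hP]
    · exact hV ▸ card_dvd_of_le h2
  have htop : center C = ⊤ := by
    refine hbig _ hPcen fun a ha => mem_center_iff.mpr fun g => ?_
    have h := hbig (centralizer ({a} : Set C))
      (fun z hz => mem_centralizer_singleton_iff.mpr ((mem_center_iff.mp (hPcen hz) a).symm))
      (fun z hz => mem_centralizer_singleton_iff.mpr (hVcomm z hz a ha))
    exact mem_centralizer_singleton_iff.mp (h.symm ▸ mem_top g)
  exact fun x y => (mem_center_iff.mp (htop.symm ▸ mem_top y) x)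

/-- In a group with trivial centre no involution has centralizer everything. -/
theorem centralizer_ne_top [IsSimpleGroup G] (hc : ¬ IsMulCommutative G) {t : G} (ht : t ≠ 1) :
    centralizer ({t} : Set G) ≠ ⊤ := by
  intro h
  rw [centralizer_eq_top_iff_subset, Set.singleton_subset_iff] at h
  rcases IsSimpleGroup.eq_bot_or_eq_top_of_normal (center G) inferInstance with h1 | h1
  · rw [h1] at h
    exact ht h
  · exact hc ⟨⟨fun a b => (mem_center_iff.mp (h1 ▸ mem_top b : b ∈ center G) a)⟩⟩

end CfsgLib.SylowToolkit
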